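import Groth.Agent.CotTLib.SmoothField
import Mathlib.RingTheory.Kaehler.Polynomial
import Mathlib.RingTheory.RegularLocalRing.Polynomial

/-!
# A regular local ring with a section over a regular base is formally smooth
-/

set_option autoImplicit false

universe u

noncomputable section

open TensorProduct IsLocalRing

namespace Groth.Agent.SectionSmooth

variable {R : Type u} [CommRing R] {n : ℕ}

/-- First order Taylor expansion. -/
theorem taylor (a : Fin n → R) (g : MvPolynomial (Fin n) R) :
    g - (MvPolynomial.C (MvPolynomial.eval a g) +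
        ∑ i, MvPolynomial.C (MvPolynomial.eval a (MvPolynomial.pderiv i g)) * (MvPolynomial.X i - MvPolynomial.C (a i))) ∈
      (Ideal.span (Set.range fun i => (MvPolynomial.X i - MvPolynomial.C (a i) : MvPolynomial (Fin n) R))) ^ 2 := by
  classical
  set Y : Fin n → MvPolynomial (Fin n) R := fun i => MvPolynomial.X i - MvPolynomial.C (a i) with hY
  set T : MvPolynomial (Fin n) R → MvPolynomial (Fin n) R := fun g =>
    MvPolynomial.C (MvPolynomial.eval a g) + ∑ i, MvPolynomial.C (MvPolynomial.eval a (MvPolynomial.pderiv i g)) * Y i with hT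
  change g - T g ∈ _
  induction g using MvPolynomial.induction_on with
  | C c => simp [hT]
  | add p q hp hq =>
    have : p + q - T (p + q) = (p - T p) + (q - T q) := by
      simp only [hT, map_add, add_mul, Finset.sum_add_distrib]
      ring
    rw [this]
    exact add_mem hp hq
  | mul_X p j hp =>
    have h1 : p * MvPolynomial.X j - T (p * MvPolynomial.X j) =
        (p - T p) * MvPolynomial.X j + (∑ i, MvPolynomial.C (MvPolynomial.eval a (MvPolynomial.pderiv i p)) * Y i) * Y j := by
      have e : ∀ i, MvPolynomial.eval a (MvPolynomial.pderiv i (p * MvPolynomial.X j)) =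
          MvPolynomial.eval a (MvPolynomial.pderiv i p) * a j + (if i = j then MvPolynomial.eval a p else 0) := by
        intro i
        simp [MvPolynomial.pderiv_X, Pi.single_apply, apply_ite (MvPolynomial.eval a), mul_comm, eq_comm, add_comm]
      have hX : (MvPolynomial.X j : MvPolynomial (Fin n) R) = Y j + MvPolynomial.C (a j) := by simp [hY]
      simp only [hT, e, map_add, map_mul, add_mul, Finset.sum_add_distrib, MvPolynomial.eval_X,
        apply_ite MvPolynomial.C, map_zero, ite_mul, zero_mul, Finset.sum_ite_eq', Finset.mem_univ, if_true]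
      rw [hX, Finset.sum_mul]
      simp only [mul_add, add_mul, sub_mul, Finset.sum_add_distrib, Finset.sum_mul]
      have : ∀ i, MvPolynomial.C (MvPolynomial.eval a (MvPolynomial.pderiv i p)) * MvPolynomial.C (a j) * Y i =
          MvPolynomial.C (MvPolynomial.eval a (MvPolynomial.pderiv i p)) * Y i * MvPolynomial.C (a j) := fun i => by ring
      simp only [this]
      ring
    rw [h1]
    refine add_mem (Ideal.mul_mem_right _ _ hp) ?_
    rw [pow_two]
    exact Ideal.mul_mem_mul (sum_mem fun i _ => Ideal.mul_mem_left _ _ (Ideal.subset_span ⟨i, rfl⟩))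
      (Ideal.subset_span ⟨j, rfl⟩)

variable [IsLocalRing R] [IsRegularRing R] {O : Type u} [CommRing O] [IsRegularLocalRing O] [Algebra R O]

theorem formallySmooth_of_section (σ : O →ₐ[R] R) (a : Fin n → O)
    (hgen : ∀ z : O, ∃ g h : MvPolynomial (Fin n) R, IsUnit (MvPolynomial.aeval a h) ∧
      z * MvPolynomial.aeval a h = MvPolynomial.aeval a g) : Algebra.FormallySmooth R O := by
  classical
  let P₀ := MvPolynomial (Fin n) R
  let ev : P₀ →ₐ[R] O := MvPolynomial.aeval a
  haveI : (maximalIdeal O).IsMaximal := maximalIdeal.isMaximal O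
  let Q : Ideal P₀ := (maximalIdeal O).comap ev.toRingHom
  haveI : Q.IsPrime := Ideal.IsPrime.comap _
  let P := Localization.AtPrime Q
  let ψ₀ : P →ₐ[R] O := IsLocalization.liftAlgHom (M := Q.primeCompl) (f := ev) (fun y => by
    have := y.2
    exact Classical.not_not.mp this)
  letI : Algebra P O := ψ₀.toRingHom.toAlgebra
  haveI : IsScalarTower R P O := IsScalarTower.of_algebraMap_eq' ψ₀.comp_algebraMap.symm
  have hψ : ∀ x : P₀, algebraMap P O (algebraMap P₀ P x) = ev x := fun x => IsLocalization.lift_eq _ x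
  have hsurj : Function.Surjective (algebraMap P O) := by
    intro z
    obtain ⟨g, h, hu, hz⟩ := hgen z
    have hQ : h ∈ Q.primeCompl := fun hm => hm hu
    refine ⟨IsLocalization.mk' P g (⟨h, hQ⟩ : Q.primeCompl), hu.mul_right_cancel ?_⟩
    rw [hz, show MvPolynomial.aeval a h = algebraMap P O (algebraMap P₀ P h) from (hψ h).symm, ← map_mul,
      show IsLocalization.mk' P g (⟨h, hQ⟩ : Q.primeCompl) * algebraMap P₀ P h = algebraMap P₀ P g from
        IsLocalization.mk'_spec P g (⟨h, hQ⟩ : Q.primeCompl)]
    exact hψ g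
  haveI : IsRegularRing P₀ := inferInstance
  haveI : IsRegularLocalRing P := IsRegularRing.isRegularLocalRing_localization Q
  let b := (KaehlerDifferential.mvPolynomialBasis R (Fin n)).ofIsLocalizedModule P Q.primeCompl
    (KaehlerDifferential.map R R P₀ P)
  haveI : Module.Free P Ω[P⁄R] := Module.Free.of_basis b
  haveI : Module.Finite P Ω[P⁄R] := Module.Finite.of_basis b
  haveI : Algebra.FormallySmooth R P := Algebra.FormallySmooth.comp R P₀ P
  let K := ResidueField O
  have hPK : Function.Surjective (algebraMap P K) := by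
    intro z
    obtain ⟨y, rfl⟩ := IsLocalRing.residue_surjective z
    obtain ⟨x, rfl⟩ := hsurj y
    exact ⟨x, rfl⟩
  have hker : RingHom.ker (algebraMap P K) = maximalIdeal P :=
    IsLocalRing.eq_maximalIdeal (RingHom.ker_isMaximal_of_surjective (algebraMap P K) hPK)
  refine (Algebra.FormallySmooth.iff_injective_cotangentComplexBaseChange P K hsurj
    (IsNoetherian.noetherian _) (fun x hx => Ideal.Quotient.eq_zero_iff_mem.2 hx)).2 ?_
  refine (injective_iff_map_eq_zero _).2 fun z hz => ?_
  obtain ⟨f, rfl⟩ : ∃ f, z = (1 : K) ⊗ₜ f := by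
    clear hz
    induction z using TensorProduct.induction_on with
    | zero => exact ⟨0, (TensorProduct.tmul_zero _ _).symm⟩
    | add a b ha hb =>
      obtain ⟨a', rfl⟩ := ha
      obtain ⟨b', rfl⟩ := hb
      exact ⟨a' + b', (TensorProduct.tmul_add _ _ _).symm⟩
    | tmul c f =>
      obtain ⟨c, rfl⟩ := hPK c
      exact ⟨c • f, by rw [← TensorProduct.smul_tmul, Algebra.smul_def, mul_one]⟩
  rw [KaehlerDifferential.cotangentComplexBaseChange_tmul, one_smul, KaehlerDifferential.kerToTensor_apply] at hz
  obtain ⟨g, s, hgs⟩ := IsLocalization.exists_mk'_eq Q.primeCompl f.1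
  have hgf : algebraMap P₀ P g = f.1 * algebraMap P₀ P s := by
    rw [← hgs, IsLocalization.mk'_spec]
  have hf0 : algebraMap P O f.1 = 0 := f.2
  have hfK : algebraMap P K f.1 = 0 := by
    rw [IsScalarTower.algebraMap_apply P O K, hf0, map_zero]
  have hDg : (1 : K) ⊗ₜ[P] KaehlerDifferential.D R P (algebraMap P₀ P g) = 0 := by
    rw [hgf, Derivation.leibniz, TensorProduct.tmul_add, TensorProduct.tmul_smul, TensorProduct.tmul_smul,
      TensorProduct.smul_tmul', hz, smul_zero, add_zero, Algebra.smul_def, hfK, zero_mul, TensorProduct.zero_tmul]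
  have hpd : ∀ i, algebraMap P K (algebraMap P₀ P (MvPolynomial.pderiv i g)) = 0 := by
    intro i
    have h1 := congrArg (fun t => (b.baseChange K).repr t i) hDg
    simp only [Module.Basis.baseChange_repr_tmul, map_zero, Finsupp.zero_apply, Algebra.smul_def, mul_one] at h1
    rw [← h1]
    congr 1
    have : KaehlerDifferential.D R P (algebraMap P₀ P g) = KaehlerDifferential.map R R P₀ P (KaehlerDifferential.D R P₀ g) :=
      (KaehlerDifferential.map_D R R P₀ P g).symm
    rw [this, Module.Basis.ofIsLocalizedModule_repr_apply, KaehlerDifferential.mvPolynomialBasis_repr_apply]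
  let a' : Fin n → R := fun i => σ (a i)
  have hres : ∀ x : O, residue O x = residue O (algebraMap R O (σ x)) := by
    intro x
    rw [← sub_eq_zero, ← map_sub, residue_eq_zero_iff]
    intro hu
    have := hu.map σ
    simp at this
  have heval : ∀ q : P₀, MvPolynomial.eval a' q = σ (ev q) := fun q => by
    rw [show σ (ev q) = (σ.comp ev) q from rfl, MvPolynomial.comp_aeval]
    rfl
  have hsq : f.1 ∈ maximalIdeal P ^ 2 := by
    have hg0 : MvPolynomial.eval a' g = 0 := by
      rw [heval, ← hψ g, hgf, map_mul, hf0, zero_mul, map_zero]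
    have hY : ∀ i, algebraMap P₀ P (MvPolynomial.X i - MvPolynomial.C (a' i)) ∈ maximalIdeal P := fun i => by
      rw [← hker, RingHom.mem_ker, IsScalarTower.algebraMap_apply P O K, hψ, map_sub, map_sub, sub_eq_zero,
        MvPolynomial.aeval_X, MvPolynomial.aeval_C]
      exact hres (a i)
    have hC : ∀ i, algebraMap P₀ P (MvPolynomial.C (MvPolynomial.eval a' (MvPolynomial.pderiv i g))) ∈ maximalIdeal P :=
      fun i => by
      have h1 := hpd i
      rw [IsScalarTower.algebraMap_apply P O K, hψ, show algebraMap O K = residue O from rfl, hres, ← heval] at h1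
      rw [← hker, RingHom.mem_ker, IsScalarTower.algebraMap_apply P O K, hψ, MvPolynomial.aeval_C]
      exact h1
    have hgP : algebraMap P₀ P g ∈ maximalIdeal P ^ 2 := by
      have h := Ideal.mem_map_of_mem (algebraMap P₀ P) (taylor a' g)
      rw [Ideal.map_pow, map_sub] at h
      have hle : (Ideal.span (Set.range fun i => (MvPolynomial.X i - MvPolynomial.C (a' i) : P₀))).map
          (algebraMap P₀ P) ≤ maximalIdeal P := by
        rw [Ideal.map_span, Ideal.span_le]
        rintro _ ⟨_, ⟨i, rfl⟩, rfl⟩
        exact hY i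
      have h' := Ideal.pow_right_mono hle 2 h
      rw [hg0, map_zero, zero_add, map_sum] at h'
      have hsum : ∑ i, algebraMap P₀ P (MvPolynomial.C (MvPolynomial.eval a' (MvPolynomial.pderiv i g)) *
          (MvPolynomial.X i - MvPolynomial.C (a' i))) ∈ maximalIdeal P ^ 2 := sum_mem fun i _ => by
        rw [map_mul, pow_two]
        exact Ideal.mul_mem_mul (hC i) (hY i)
      simpa using add_mem h' hsum
    rw [hgf] at hgP
    obtain ⟨u, hu⟩ := IsLocalization.map_units P s
    rw [← hu] at hgP
    exact (Ideal.mul_unit_mem_iff_mem _ u.isUnit).mp hgP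
  have hmem : f.1 ∈ maximalIdeal P * RingHom.ker (algebraMap P O) :=
    (CotTLib.regSurj _ P O _ hsurj le_rfl).1 ⟨f.2, hsq⟩
  have hgen' : ∀ g ∈ maximalIdeal P * RingHom.ker (algebraMap P O),
      ∃ hg : g ∈ RingHom.ker (algebraMap P O),
        (1 : K) ⊗ₜ[P] (⟨g, hg⟩ : RingHom.ker (algebraMap P O)) = 0 := by
    intro g hg
    induction hg using Submodule.mul_induction_on' with
    | mem_mul_mem a ha b hb =>
      refine ⟨Ideal.mul_mem_left _ a hb, ?_⟩
      have hsm : (⟨a * b, Ideal.mul_mem_left _ a hb⟩ : RingHom.ker (algebraMap P O)) = a • ⟨b, hb⟩ := rfl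
      rw [hsm, ← TensorProduct.smul_tmul, Algebra.smul_def, mul_one,
        show algebraMap P K a = 0 from hker.ge ha, TensorProduct.zero_tmul]
    | add a _ b _ ha hb =>
      obtain ⟨ha', ha⟩ := ha
      obtain ⟨hb', hb⟩ := hb
      refine ⟨add_mem ha' hb', ?_⟩
      rw [show (⟨a + b, add_mem ha' hb'⟩ : RingHom.ker (algebraMap P O)) =
        ⟨a, ha'⟩ + ⟨b, hb'⟩ from rfl, TensorProduct.tmul_add, ha, hb, add_zero]
  exact (hgen' f.1 hmem).2

end Groth.Agent.SectionSmooth
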